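import Groth.Agent.Lib.DeligneFP18.Tower

/-!
Deligne's extension lemma with a finitely presented module covering the ideal.
-/

set_option autoImplicit false
set_option linter.unusedSectionVars false
set_option linter.style.haveILetI false
set_option backward.isDefEq.respectTransparency false
set_option backward.isDefEq.respectTransparency.types false
set_option maxHeartbeats 1600000

universe u

open CategoryTheory CategoryTheory.Limits AlgebraicGeometry Opposite TensorProduct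

namespace Groth.Agent.DeligneFP18

open DeligneExt9

variable {X : Scheme.{u}} {E : X.Modules} {I : X.IdealSheafData} (π : E ⟶ ClSub.idealMod I)
  {M : X.Modules} {U : X.Opens}

/-- A lift of the section `mul_n • s` over an affine open. -/
def IsLift (W : X.affineOpens) (s : Γ(M, W.1 ⊓ U)) (n : ℕ) (l : Γ(tpow E n, W.1) →ₗ[Γ(X, W.1)] Γ(M, W.1)) : Prop :=
  ∀ t, M1.mres M (inf_le_left : W.1 ⊓ U ≤ W.1) (l t) =
    M1.ores (inf_le_left : W.1 ⊓ U ≤ W.1) (mulv π n W.1 t) • s

/-- Lifts persist in higher tensor powers. -/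
theorem raise_lift (W : X.affineOpens) (s : Γ(M, W.1 ⊓ U)) {m n : ℕ} (h : m ≤ n)
    (l : Γ(tpow E m, W.1) →ₗ[Γ(X, W.1)] Γ(M, W.1)) (hl : IsLift π W s m l) :
    ∃ l' : Γ(tpow E n, W.1) →ₗ[Γ(X, W.1)] Γ(M, W.1), IsLift π W s n l' := by
  obtain ⟨k, rfl⟩ := Nat.exists_eq_add_of_le h
  let d : Γ(tpow E (m + k), W.1) →ₗ[Γ(X, W.1)] Γ(tpow E m, W.1) :=
    { toFun := fun t => (down π m k).app W.1 t
      map_add' := fun a b => map_add _ a b
      map_smul' := fun r a => Scheme.Modules.Hom.app_smul (down π m k) r a }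
  refine ⟨l.comp d, fun t => ?_⟩
  refine (hl (d t)).trans ?_
  have e : mulv π (m + k) W.1 t = mulv π m W.1 (d t) := by
    unfold mulv
    rw [mul_down π m k]
    rfl
  rw [e]

section
variable [Coh.IsQCoh M] (hUI : (I.support : Set X) = (U : Set X)ᶜ) (hIft : ∀ W : X.affineOpens, (I.ideal W).FG)
  (hE : CohB1.IsFP E)

include hUI hIft hE

/-- Lifts exist in a high tensor power. -/
theorem exists_lift (W : X.affineOpens) (s : Γ(M, W.1 ⊓ U)) :
    ∃ (n : ℕ) (l : Γ(tpow E n, W.1) →ₗ[Γ(X, W.1)] Γ(M, W.1)), IsLift π W s n l := by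
  classical
  obtain ⟨n, hn⟩ := exists_pow_smul_mem_range hUI hIft W s
  letI : Module Γ(X, W.1) Γ(M, W.1 ⊓ U) :=
    Module.compHom _ (M1.ores (inf_le_left : W.1 ⊓ U ≤ W.1)).hom
  let r : Γ(M, W.1) →ₗ[Γ(X, W.1)] Γ(M, W.1 ⊓ U) :=
    { toFun := M1.mres M inf_le_left
      map_add' := map_add _
      map_smul' := fun a m => M1.mres_smul M inf_le_left a m }
  let Z : ℕ → Submodule Γ(X, W.1) Γ(M, W.1) := fun i =>
    { carrier := {m | r m = 0 ∧ ∀ b ∈ (I.ideal W) ^ i, b • m = 0}
      add_mem' := fun {a b} ha hb => ⟨by rw [map_add, ha.1, hb.1, add_zero],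
        fun c hc => by rw [smul_add, ha.2 c hc, hb.2 c hc, add_zero]⟩
      zero_mem' := ⟨map_zero r, fun c _ => smul_zero c⟩
      smul_mem' := fun a m hm => ⟨by rw [map_smul, hm.1, smul_zero],
        fun c hc => by rw [smul_comm, hm.2 c hc, smul_zero]⟩ }
  have hZr : ∀ i, Z i ≤ LinearMap.ker r := fun i m hm => hm.1
  suffices key : ∀ i n (f : Γ(tpow E n, W.1) →ₗ[Γ(X, W.1)] Γ(M, W.1) ⧸ Z i),
      (∀ t, (Z i).liftQ r (hZr i) (f t) = M1.ores (inf_le_left : W.1 ⊓ U ≤ W.1) (mulv π n W.1 t) • s) →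
      ∃ (n : ℕ) (l : Γ(tpow E n, W.1) →ₗ[Γ(X, W.1)] Γ(M, W.1)), IsLift π W s n l by
    -- the first lift, modulo the submodule killed by a power of the ideal
    haveI := M1.finitePresentation_sections (isFP_tpow hE n) W.2
    obtain ⟨d, q, hq⟩ := Module.Finite.exists_fin' Γ(X, W.1) Γ(tpow E n, W.1)
    have hm : ∀ j : Fin d, ∃ m : Γ(M, W.1),
        r m = M1.ores (inf_le_left : W.1 ⊓ U ≤ W.1) (mulv π n W.1 (q (Pi.single j 1))) • s :=
      fun j => hn _ (mul_mem π hE W n _)
    choose m hm using hm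
    let l₀ := (Pi.basisFun Γ(X, W.1) (Fin d)).constr Γ(X, W.1) m
    let T : Γ(tpow E n, W.1) →ₗ[Γ(X, W.1)] Γ(M, W.1 ⊓ U) :=
      { toFun := fun t => M1.ores (inf_le_left : W.1 ⊓ U ≤ W.1) (mulv π n W.1 t) • s
        map_add' := fun a b => by rw [mulv_add, map_add, add_smul]
        map_smul' := fun a t => by
          rw [mulv_smul, map_mul, mul_smul]
          rfl }
    have hT : r.comp l₀ = T.comp q := (Pi.basisFun Γ(X, W.1) (Fin d)).ext fun j => by
      rw [LinearMap.comp_apply, LinearMap.comp_apply, Module.Basis.constr_basis, Pi.basisFun_apply]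
      exact hm j
    obtain ⟨G, hG⟩ := Module.FinitePresentation.fg_ker q hq
    have hker : ∀ g ∈ G, ∃ k, ∀ b ∈ (I.ideal W) ^ k, b • l₀ g = 0 := fun g hg => by
      refine exists_pow_smul_eq_zero hUI hIft W (l₀ g) ?_
      have h0 : q g = 0 := LinearMap.mem_ker.1 (hG ▸ Submodule.subset_span hg)
      have h1 := LinearMap.congr_fun hT g
      rw [LinearMap.comp_apply, LinearMap.comp_apply, h0, map_zero] at h1
      exact h1
    choose kg hkg using hker
    let k := G.attach.sup fun g => kg g.1 g.2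
    have hle : LinearMap.ker q ≤ LinearMap.ker ((Z k).mkQ.comp l₀) := by
      rw [← hG, Submodule.span_le]
      intro g hg
      refine LinearMap.mem_ker.2 ((Submodule.Quotient.mk_eq_zero _).2 ⟨?_, fun b hb => hkg g hg b ?_⟩)
      · have h0 : q g = 0 := LinearMap.mem_ker.1 (hG ▸ Submodule.subset_span hg)
        have h1 := LinearMap.congr_fun hT g
        rw [LinearMap.comp_apply, LinearMap.comp_apply, h0, map_zero] at h1
        exact h1
      · exact Ideal.pow_le_pow_right (Finset.le_sup (f := fun g : G => kg g.1 g.2) (Finset.mem_attach G ⟨g, hg⟩)) hb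
    refine key k n (((LinearMap.ker q).liftQ _ hle).comp (q.quotKerEquivOfSurjective hq).symm.toLinearMap)
      fun t => ?_
    obtain ⟨v, rfl⟩ := hq t
    have e : (q.quotKerEquivOfSurjective hq).symm (q v) = Submodule.Quotient.mk v :=
      (LinearEquiv.symm_apply_eq _).2 rfl
    rw [LinearMap.comp_apply, LinearEquiv.coe_coe, e, Submodule.liftQ_apply, LinearMap.comp_apply,
      Submodule.mkQ_apply, Submodule.liftQ_apply]
    exact LinearMap.congr_fun hT v
  intro i
  induction i with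
  | zero =>
    intro n f hf
    have hZ : Z 0 = ⊥ := by
      refine eq_bot_iff.2 fun m hm => ?_
      have h := hm.2 1 (by rw [pow_zero, Ideal.one_eq_top]; trivial)
      rwa [one_smul] at h
    let e := Submodule.quotEquivOfEqBot (Z 0) hZ
    refine ⟨n, e.toLinearMap.comp f, fun t => ?_⟩
    rw [← hf t]
    obtain ⟨m, hm⟩ := Submodule.mkQ_surjective (Z 0) (f t)
    rw [LinearMap.comp_apply, ← hm, Submodule.mkQ_apply, Submodule.liftQ_apply]
    rfl
  | succ i ih =>
    intro n f hf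
    let a : Γ(E, W.1) →ₗ[Γ(X, W.1)] Γ(X, W.1) :=
      { toFun := fun e => M2.idealIncl I (π.app W.1 e)
        map_add' := fun x y => by rw [map_add, M2.idealIncl_add]
        map_smul' := fun c x => by
          rw [Scheme.Modules.Hom.app_smul, M2.idealIncl_smul]
          rfl }
    have ha : ∀ e, a e ∈ I.ideal W := fun e => by
      rw [← SetLike.mem_coe, ← M2.range_idealIncl]
      exact ⟨π.app W.1 e, rfl⟩
    have hmul : ∀ e : Γ(E, W.1), Z (i + 1) ≤ (Z i).comap (a e • LinearMap.id) := fun e m hm => by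
      refine ⟨?_, fun b hb => ?_⟩
      · rw [LinearMap.smul_apply, LinearMap.id_apply, map_smul, hm.1, smul_zero]
      · rw [LinearMap.smul_apply, LinearMap.id_apply, ← mul_smul]
        exact hm.2 _ (by rw [pow_succ]; exact Ideal.mul_mem_mul hb (ha e))
    let bil : Γ(E, W.1) →ₗ[Γ(X, W.1)] Γ(tpow E n, W.1) →ₗ[Γ(X, W.1)] Γ(M, W.1) ⧸ Z i :=
      { toFun := fun e => ((Z (i + 1)).mapQ (Z i) (a e • LinearMap.id) (hmul e)).comp f
        map_add' := fun x y => LinearMap.ext fun t => by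
          obtain ⟨m, hm⟩ := Submodule.mkQ_surjective (Z (i + 1)) (f t)
          simp [← hm, add_smul]
        map_smul' := fun c x => LinearMap.ext fun t => by
          obtain ⟨m, hm⟩ := Submodule.mkQ_surjective (Z (i + 1)) (f t)
          simp [← hm, mul_smul] }
    let ε := LinearEquiv.ofBijective _ (CBC10.bijective_secTensor E (tpow E n) (M1.isFP_isQCoh hE)
      (M1.isFP_isQCoh (isFP_tpow hE n)) W.2)
    let f' : Γ(tpow E (n + 1), W.1) →ₗ[Γ(X, W.1)] Γ(M, W.1) ⧸ Z i :=
      (TensorProduct.lift bil).comp ε.symm.toLinearMap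
    refine ih (n + 1) f' fun t => ?_
    obtain ⟨z, rfl⟩ := ε.surjective t
    rw [show f' (ε z) = TensorProduct.lift bil z from congrArg _ (ε.symm_apply_apply z)]
    induction z using TensorProduct.induction_on with
    | zero =>
      rw [map_zero, map_zero, map_zero]
      rw [show mulv π (n + 1) W.1 0 = 0 from map_zero ((mul π (n + 1)).app W.1).hom, map_zero, zero_smul]
    | add x y hx hy =>
      rw [map_add, map_add, map_add, hx, hy, ← add_smul, ← map_add, ← mulv_add]
    | tmul e t =>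
      obtain ⟨m, hm⟩ := Submodule.mkQ_surjective (Z (i + 1)) (f t)
      have e1 : TensorProduct.lift bil (e ⊗ₜ t) = Submodule.Quotient.mk (a e • m) := by
        rw [TensorProduct.lift.tmul]
        change (Z (i + 1)).mapQ (Z i) _ (hmul e) (f t) = _
        rw [← hm]
        rfl
      have e2 : mulv π (n + 1) W.1 (ε (e ⊗ₜ t)) = a e * mulv π n W.1 t := by
        rw [show ε (e ⊗ₜ t) = M2.tsec E (tpow E n) e t from CBC10.secTensor_tmul E (tpow E n) e t]
        change (mul π n).app W.1 ((step π (tpow E n)).app W.1 _) = _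
        rw [step_tsec]
        exact Scheme.Modules.Hom.app_smul (mul π n) _ t
      rw [e1, Submodule.liftQ_apply, map_smul, e2, map_mul, mul_smul, ← hf t, ← hm]
      rfl

end

section Extension

variable [Coh.IsQCoh M] (hUI : (I.support : Set X) = (U : Set X)ᶜ) (hIft : ∀ W : X.affineOpens, (I.ideal W).FG)

include hUI hIft

variable [CompactSpace X] [QuasiSeparatedSpace X] (hE : CohB1.IsFP E)

include hE

/-- Deligne's extension lemma. -/
theorem exists_extend (s : Γ(M, U)) : ∃ (n : ℕ) (Φ : tpow E n ⟶ M),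
    ∀ (O : X.Opens) (hO : O ≤ U) (t : Γ(tpow E n, O)),
      Φ.app O t = mulv π n O t • M1.mres M hO s := by
  classical
  obtain ⟨c, -, hc⟩ := ModLimH13.exists_finset_affine_cover (⊤ : X.Opens) isCompact_univ
  choose nW lW hlW using fun W : X.affineOpens =>
    exists_lift (M := M) π hUI hIft hE W (M1.mres M (inf_le_right : W.1 ⊓ U ≤ U) s)
  let n := c.sup nW
  let P := tpow E n
  have hP := isFP_tpow hE n
  haveI := M1.isFP_isQCoh hP
  let ψ : ModLimH13.LocalHom P M U :=
    { app := fun O hO => AddMonoidHom.mk' (fun t => mulv π n O t • M1.mres M hO s)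
        (fun a b => by rw [mulv_add, add_smul])
      app_smul := fun O hO r t => by
        change mulv π n O (r • t) • _ = r • (mulv π n O t • M1.mres M hO s)
        rw [← mul_smul, mulv_smul]
      app_mres := fun O O' hO i t => by
        change mulv π n O' (M1.mres P i t) • M1.mres M (i.trans hO) s = M1.mres M i (mulv π n O t • M1.mres M hO s)
        rw [M1.mres_smul, M1.mres_mres, mulv_mres] }
  have hψ : ∀ (O : X.Opens) (hO : O ≤ U) (t : Γ(P, O)),
      ψ.app O hO t = mulv π n O t • M1.mres M hO s := fun _ _ _ => rfl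
  have hloc : ∀ W : c, ∃ φ : ModLimH13.LocalHom P M W.1.1, ∀ t : Γ(P, W.1.1),
      M1.mres M (inf_le_left : W.1.1 ⊓ U ≤ W.1.1) (φ.app W.1.1 le_rfl t) =
        ψ.app (W.1.1 ⊓ U) inf_le_right (M1.mres P inf_le_left t) := by
    intro W
    obtain ⟨l, hl⟩ := raise_lift (M := M) π W.1 (M1.mres M (inf_le_right : W.1.1 ⊓ U ≤ U) s)
      (Finset.le_sup (f := nW) W.2) (lW W.1) (hlW W.1)
    obtain ⟨φ, hφ⟩ := ModLimH13.exists_localHom W.1.2 l.toAddMonoidHom fun a b => l.map_smul a b
    refine ⟨φ, fun t => ?_⟩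
    rw [hφ, hψ, mulv_mres]
    exact hl t
  choose φ hφ using hloc
  have hagree : ∀ (W : c) (O : X.Opens) (hW : O ≤ W.1.1) (hU : O ≤ U) (t : Γ(P, O)),
      (φ W).app O hW t = ψ.app O hU t := fun W O hW hU t =>
    ModLimH13.LocalHom.ext_of_affine W.1.2 (inf_le_left : W.1.1 ⊓ U ≤ W.1.1) (φ W) ψ inf_le_left inf_le_right
      (fun t => by rw [(φ W).app_mres _ _ le_rfl inf_le_left]; exact hφ W t) (le_inf hW hU) t
  -- killing the differences on overlaps
  have hd : ∀ p : c × c, ∃ Zs : Finset X.affineOpens, ∃ k : ℕ,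
      (∀ Z ∈ Zs, Z.1 ≤ p.1.1.1 ⊓ p.2.1.1) ∧ (∀ x ∈ p.1.1.1 ⊓ p.2.1.1, ∃ Z ∈ Zs, x ∈ Z.1) ∧
      ∀ Z ∈ Zs, ∀ (h₁ : Z.1 ≤ p.1.1.1) (h₂ : Z.1 ≤ p.2.1.1) (t : Γ(P, Z.1)),
        ∀ b ∈ (I.ideal Z) ^ k, b • ((φ p.1).app Z.1 h₁ t - (φ p.2).app Z.1 h₂ t) = 0 := by
    rintro ⟨a, b⟩
    obtain ⟨Zs, hZ, hZc⟩ := ModLimH13.exists_finset_affine_cover (a.1.1 ⊓ b.1.1)
      (QuasiSeparatedSpace.inter_isCompact _ _ a.1.1.2 a.1.2.isCompact b.1.1.2 b.1.2.isCompact)
    have hk : ∀ Z : Zs, ∃ k : ℕ, ∀ (h₁ : Z.1.1 ≤ a.1.1) (h₂ : Z.1.1 ≤ b.1.1) (t : Γ(P, Z.1.1)),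
        ∀ r ∈ (I.ideal Z.1) ^ k, r • ((φ a).app Z.1.1 h₁ t - (φ b).app Z.1.1 h₂ t) = 0 := by
      intro Z
      have hZa : Z.1.1 ≤ a.1.1 := (hZ Z.1 Z.2).trans inf_le_left
      have hZb : Z.1.1 ≤ b.1.1 := (hZ Z.1 Z.2).trans inf_le_right
      obtain ⟨G, hG⟩ := (M1.finite_sections (M1.isFP_isQCoh hP) (M1.isFP_isFT hP) Z.1.2).fg_top
      have h0 : ∀ t : Γ(P, Z.1.1), M1.mres M (inf_le_left : Z.1.1 ⊓ U ≤ Z.1.1)
          ((φ a).app Z.1.1 hZa t - (φ b).app Z.1.1 hZb t) = 0 := fun t => by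
        rw [map_sub, sub_eq_zero, ← (φ a).app_mres, ← (φ b).app_mres,
          hagree a _ _ inf_le_right, hagree b _ _ inf_le_right]
      choose kt hkt using fun t => exists_pow_smul_eq_zero (M := M) hUI hIft Z.1 _ (h0 t)
      refine ⟨G.sup kt, fun h₁ h₂ t r hr => ?_⟩
      have ht : t ∈ Submodule.span Γ(X, Z.1.1) (G : Set Γ(P, Z.1.1)) := hG ▸ trivial
      induction ht using Submodule.span_induction with
      | mem t ht => exact hkt t r (Ideal.pow_le_pow_right (Finset.le_sup (f := kt) ht) hr)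
      | zero => rw [map_zero, map_zero, sub_self, smul_zero]
      | add t t' _ _ e e' => rw [map_add, map_add, add_sub_add_comm, smul_add, e, e', add_zero]
      | smul r' t _ e => rw [(φ a).app_smul, (φ b).app_smul, ← smul_sub, smul_comm, e, smul_zero]
    choose k hk using hk
    refine ⟨Zs, Zs.attach.sup k, hZ, hZc, fun Z hZ' h₁ h₂ t r hr => ?_⟩
    exact hk ⟨Z, hZ'⟩ h₁ h₂ t r
      (Ideal.pow_le_pow_right (Finset.le_sup (f := k) (Finset.mem_attach Zs ⟨Z, hZ'⟩)) hr)
  choose Zs kd hZsub hZcov hkill using hd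
  let K := Finset.univ.sup kd
  let δ := down π n K
  haveI := M1.isFP_isQCoh (isFP_tpow hE (n + K))
  let φ' : ∀ W : c, ModLimH13.LocalHom (tpow E (n + K)) M W.1.1 := fun W =>
    { app := fun O hO => ((φ W).app O hO).comp (δ.app O).hom
      app_smul := fun O hO r t => by
        change (φ W).app O hO (δ.app O (r • t)) = r • (φ W).app O hO (δ.app O t)
        rw [Scheme.Modules.Hom.app_smul, (φ W).app_smul]
      app_mres := fun O O' hO i t => by
        change (φ W).app O' _ (δ.app O' (M1.mres _ i t)) = M1.mres M i ((φ W).app O hO (δ.app O t))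
        rw [M1.app_mres]
        exact (φ W).app_mres O O' hO i _ }
  obtain ⟨Φ, hΦ⟩ := ModLimH13.exists_hom_of_localHom (V := fun W : c => W.1.1)
    (by
      refine top_le_iff.1 fun x _ => ?_
      obtain ⟨W, hW, hxW⟩ := hc x trivial
      exact TopologicalSpace.Opens.mem_iSup.2 ⟨⟨W, hW⟩, hxW⟩) φ' (by
      intro a b O ha hb t
      refine M1.modules_eq_of_locally_eq M O (fun Z : Zs (a, b) => O ⊓ Z.1.1) (fun Z => inf_le_left)
        (fun x hx => ?_) _ _ fun Z => ?_
      · obtain ⟨Z, hZ, hxZ⟩ := hZcov (a, b) x ⟨ha hx, hb hx⟩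
        exact TopologicalSpace.Opens.mem_iSup.2 ⟨⟨Z, hZ⟩, hx, hxZ⟩
      · have hZa : Z.1.1 ≤ a.1.1 := (hZsub _ Z.1 Z.2).trans inf_le_left
        have hZb : Z.1.1 ≤ b.1.1 := (hZsub _ Z.1 Z.2).trans inf_le_right
        rw [← (φ' a).app_mres O _ ha inf_le_left, ← (φ' b).app_mres O _ hb inf_le_left]
        refine ModLimH13.LocalHom.ext_of_affine Z.1.2 (le_refl Z.1.1) (φ' a) (φ' b) hZa hZb (fun t => ?_)
          inf_le_right _
        rw [M1.mres_id]
        change (φ a).app _ hZa (δ.app _ t) = (φ b).app _ hZb (δ.app _ t)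
        rw [← sub_eq_zero]
        have hmem := down_mem π hE n Z.1 K t
        refine Submodule.smul_induction_on hmem (fun r hr m _ => ?_) (fun x y e e' => ?_)
        · rw [(φ a).app_smul, (φ b).app_smul, ← smul_sub]
          exact hkill (a, b) Z.1 Z.2 hZa hZb m r
            (Ideal.pow_le_pow_right (Finset.le_sup (f := kd) (Finset.mem_univ (a, b))) hr)
        · rw [map_add, map_add, add_sub_add_comm, e, e', add_zero])
  refine ⟨n + K, Φ, fun O hO t => ?_⟩
  refine M1.modules_eq_of_locally_eq M O (fun W : c => O ⊓ W.1.1) (fun W => inf_le_left)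
    (fun x hx => ?_) _ _ fun W => ?_
  · obtain ⟨W, hW, hxW⟩ := hc x trivial
    exact TopologicalSpace.Opens.mem_iSup.2 ⟨⟨W, hW⟩, hx, hxW⟩
  · rw [M1.mres_smul, ← M1.app_mres Φ, hΦ W _ inf_le_right]
    change (φ W).app _ _ (δ.app _ (M1.mres _ _ t)) = _
    rw [hagree W _ _ (inf_le_left.trans hO)]
    rw [hψ, M1.mres_mres]
    refine congrArg (· • _) ?_
    have h := M1.app_mres (δ ≫ mul π n) (inf_le_left : O ⊓ W.1.1 ≤ O) t
    refine h.trans ?_
    rw [show δ ≫ mul π n = mul π (n + K) from (mul_down π n K).symm]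
    rfl

end Extension

end Groth.Agent.DeligneFP18
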