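import Groth.Agent.Lib.DeligneFP18.Extend
import Groth.Agent.Lib.DeligneExt9.Res
import Groth.Agent.Lib.FPExt12.FTColim
import Groth.Agent.Lib.FPExt12.Present
import Groth.Agent.Lib.QcOpenIdeal19
import Groth.Agent.Lib.DlzCurve17.DvrWitness

/-!
Tensor powers of one finitely presented module generate the finite type quasi-coherent modules.
-/

set_option autoImplicit false
set_option linter.unusedSectionVars false
set_option linter.style.haveILetI false
set_option backward.isDefEq.respectTransparency false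
set_option backward.isDefEq.respectTransparency.types false
set_option maxHeartbeats 1600000

universe u

open CategoryTheory CategoryTheory.Limits AlgebraicGeometry Opposite

namespace Groth.Agent.DeligneFP18

open DeligneExt9

variable {X : Scheme.{u}}

/-- Every finite type module is covered by tensor powers of a module covering the boundary ideals. -/
theorem exists_epi_tpow [CompactSpace X] [QuasiSeparatedSpace X] {m : ℕ} (U : Fin m → X.Opens)
    (hUaff : ∀ j, IsAffineOpen (U j))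
    (hcov : ⨆ j, U j = ⊤) (I : Fin m → X.IdealSheafData) (hIft : ∀ j, ∀ W : X.affineOpens, ((I j).ideal W).FG)
    (hIsupp : ∀ j, ((I j).support : Set ↥X) = (U j : Set ↥X)ᶜ)
    (E : X.Modules) (hE : CohB1.IsFP E) (π : ∀ j, E ⟶ ClSub.idealMod (I j)) (hπ : ∀ j, Epi (π j))
    (M : X.Modules) (hM : Coh.IsQCoh M) (hMf : CohB1.IsFT M) :
    ∃ (N : ℕ) (nn : Fin N → ℕ) (Ψs : ∀ i, tpow E (nn i) ⟶ M), Epi (biproduct.desc Ψs) := by
  classical
  haveI := hM
  haveI : ∀ j, Module.Finite Γ(X, U j) Γ(M, U j) := fun j => M1.finite_sections hM hMf (hUaff j)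
  choose d gen hgen using fun j : Fin m =>
    Submodule.fg_iff_exists_fin_generating_family.1 (Module.Finite.fg_top (R := Γ(X, U j)) (M := Γ(M, U j)))
  choose n Φ hΦ using fun (j : Fin m) (a : Fin (d j)) =>
    DeligneFP18.exists_extend (π j) (M := M) (hIsupp j) (hIft j) hE (gen j a)
  let σ := Σ j : Fin m, Fin (d j)
  let N := Fintype.card σ
  let e : Fin N ≃ σ := (Fintype.equivFin σ).symm
  let A : Fin N → X.Modules := fun i => tpow E (n (e i).1 (e i).2)
  let Ψ : ⨁ A ⟶ M := biproduct.desc fun i => Φ (e i).1 (e i).2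
  refine ⟨N, fun i => n (e i).1 (e i).2, fun i => Φ (e i).1 (e i).2, ?_⟩
  refine (M1.epi_iff_stalk _).2 fun x b => ?_
  change M.presheaf.stalk x at b
  obtain ⟨j, hxj⟩ := TopologicalSpace.Opens.mem_iSup.1 (show x ∈ ⨆ j, U j by rw [hcov]; trivial)
  have hxs : x ∉ ((I j).support : Set X) := by
    rw [hIsupp j]
    exact fun h => h hxj
  -- germs of the generators lie in the image
  have hgenmem : ∀ (a : Fin (d j)) (c : X.presheaf.stalk x),
      ∃ z, stk Ψ x z = c • M.presheaf.germ (U j) x hxj (gen j a) := by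
    intro a c
    haveI := hπ j
    obtain ⟨O', hxO', r, rfl⟩ := X.presheaf.exists_germ_eq c
    obtain ⟨z₀, hz₀⟩ := mul_stalk_surjective (π j) hxs (n j a)
      ((Coh.structureModule X).presheaf.germ O' x hxO' r)
    obtain ⟨V, hxV, t, rfl⟩ := (tpow E (n j a)).presheaf.exists_germ_eq z₀
    rw [stk_germ] at hz₀
    obtain ⟨O, hxO₁, i₁, i₂, he⟩ := (Coh.structureModule X).presheaf.germ_eq x hxV hxO' _ _ hz₀
    have he' : M1.ores i₁.le (mulv (π j) (n j a) V t) = M1.ores i₂.le r := he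
    have hg : X.presheaf.germ V x hxV (mulv (π j) (n j a) V t) = X.presheaf.germ O' x hxO' r := by
      have h1 := congrArg (X.presheaf.germ O x hxO₁) he'
      rwa [TopCat.Presheaf.germ_res_apply, TopCat.Presheaf.germ_res_apply] at h1
    obtain ⟨i, hi⟩ := e.surjective ⟨j, a⟩
    have hmem : stk (Φ j a) x ((tpow E (n j a)).presheaf.germ V x hxV t) =
        X.presheaf.germ O' x hxO' r • M.presheaf.germ (U j) x hxj (gen j a) := by
      have hxO : x ∈ V ⊓ U j := ⟨hxV, hxj⟩
      have e1 : M.presheaf.germ (V ⊓ U j) x hxO (M1.mres M inf_le_left ((Φ j a).app V t)) =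
          M.presheaf.germ V x hxV ((Φ j a).app V t) := M1.germ_mres M inf_le_left hxO _
      rw [stk_germ, ← e1, ← M1.app_mres, hΦ j a _ inf_le_right, M1.germ_smul, M1.germ_mres, mulv_mres,
        TopCat.Presheaf.germ_res_apply, hg]
    have hcomp : ∀ q : σ, q = ⟨j, a⟩ → ∃ z,
        stk (Φ q.1 q.2) x z = X.presheaf.germ O' x hxO' r • M.presheaf.germ (U j) x hxj (gen j a) := by
      rintro q rfl
      exact ⟨_, hmem⟩
    obtain ⟨z, hz⟩ := hcomp (e i) hi
    refine ⟨stk (biproduct.ι A i) x z, ?_⟩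
    rw [← hz]
    change ((M1.stalkAb x).map Ψ).hom (((M1.stalkAb x).map (biproduct.ι A i)).hom z) = _
    have hd : biproduct.ι A i ≫ Ψ = Φ (e i).1 (e i).2 := biproduct.ι_desc _ _
    exact (ConcreteCategory.congr_hom ((M1.stalkAb x).map_comp _ _) z).symm.trans (by rw [hd]; rfl)
  obtain ⟨r, h, hr, hb⟩ := M1.exists_germ_smul_eq M (hUaff j) hxj b
  obtain ⟨v, hv⟩ := hr
  have hb' : b = (↑v⁻¹ : X.presheaf.stalk x) • M.presheaf.germ (U j) x hxj h := by
    rw [← hb, ← hv, ← mul_smul, Units.inv_mul, one_smul]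
  suffices hall : ∀ c : X.presheaf.stalk x, ∃ z, stk Ψ x z = c • M.presheaf.germ (U j) x hxj h by
    obtain ⟨z, hz⟩ := hall ↑v⁻¹
    exact ⟨z, hz.trans hb'.symm⟩
  clear hb hb'
  have hspan : h ∈ Submodule.span Γ(X, U j) (Set.range (gen j)) := (hgen j).symm ▸ trivial
  induction hspan using Submodule.span_induction with
  | mem y hy =>
    obtain ⟨a, rfl⟩ := hy
    exact hgenmem a
  | zero => exact fun c => ⟨0, by rw [map_zero, map_zero, smul_zero]⟩
  | add y y' _ _ h₁ h₂ =>
    intro c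
    obtain ⟨z, hz⟩ := h₁ c
    obtain ⟨z', hz'⟩ := h₂ c
    exact ⟨z + z', by rw [map_add, map_add, smul_add, hz, hz']⟩
  | smul r' y _ h₁ =>
    intro c
    obtain ⟨z, hz⟩ := h₁ (c * X.presheaf.germ (U j) x hxj r')
    exact ⟨z, by rw [M1.germ_smul, hz, mul_smul]⟩


theorem isFT_idealMod {I : X.IdealSheafData} (hI : ∀ W : X.affineOpens, (I.ideal W).FG) :
    CohB1.IsFT (ClSub.idealMod I) :=
  M1.isFT_of_finite_sections (M2.isQCoh_idealMod I) fun W hW => by
    let φ : Γ(ClSub.idealMod I, W) →ₗ[Γ(X, W)] Γ(X, W) :=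
      { toFun := M2.idealIncl I
        map_add' := M2.idealIncl_add I
        map_smul' := fun r a => M2.idealIncl_smul I r a }
    have hr : LinearMap.range φ = I.ideal ⟨W, hW⟩ := SetLike.coe_injective (M2.range_idealIncl I ⟨W, hW⟩)
    haveI : Module.Finite Γ(X, W) (LinearMap.range φ) := Module.Finite.iff_fg.2 (hr ▸ hI ⟨W, hW⟩)
    exact Module.Finite.equiv (LinearEquiv.ofInjective φ (M2.idealIncl_injective I W)).symm

theorem comp_app' {A B C : X.Modules} (f : A ⟶ B) (g : B ⟶ C) (U : X.Opens) (a : Γ(A, U)) :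
    (f ≫ g).app U a = g.app U (f.app U a) := M1.comp_app_apply f g U a

/-- A finite biproduct of finitely presented modules is finitely presented. -/
theorem isFP_biproduct {r : ℕ} (G : Fin r → X.Modules) (h : ∀ i, CohB1.IsFP (G i)) : CohB1.IsFP (⨁ G) := by
  refine M1.isFP_of_finitePresentation_sections
    (DlzCurve17.isQCoh_biproduct_fin G fun i => M1.isFP_isQCoh (h i)) fun U hU => ?_
  haveI : ∀ i, Module.FinitePresentation Γ(X, U) Γ(G i, U) := fun i => M1.finitePresentation_sections (h i) hU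
  let p : Γ(⨁ G, U) →ₗ[Γ(X, U)] ∀ i, Γ(G i, U) :=
    { toFun := fun t i => (biproduct.π G i).app U t
      map_add' := fun a b => funext fun i => map_add _ a b
      map_smul' := fun c a => funext fun i => Scheme.Modules.Hom.app_smul (biproduct.π G i) c a }
  haveI := Module.FinitePresentation.pi (R := Γ(X, U)) fun i => Γ(G i, U)
  refine Module.FinitePresentation.of_equiv (LinearEquiv.ofBijective p ⟨fun a b hab => ?_, fun v => ?_⟩).symm
  · have key : ∀ a : Γ(⨁ G, U), a = ∑ i, (biproduct.ι G i).app U ((biproduct.π G i).app U a) := fun a => by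
      have h := congrArg (fun φ : ⨁ G ⟶ ⨁ G => φ.app U a) (biproduct.total (f := G))
      let ev : (⨁ G ⟶ ⨁ G) →+ Γ(⨁ G, U) :=
        AddMonoidHom.mk' (fun φ => φ.app U a) (fun f g => rfl)
      have h' : ev (∑ i, biproduct.π G i ≫ biproduct.ι G i) = ev (𝟙 _) := h
      rw [map_sum] at h'
      refine h'.symm.trans (Finset.sum_congr rfl fun i _ => ?_)
      exact comp_app' (biproduct.π G i) (biproduct.ι G i) U a
    rw [key a, key b]
    exact Finset.sum_congr rfl fun i _ => congrArg ((biproduct.ι G i).app U) (congrFun hab i)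
  · refine ⟨∑ i, (biproduct.ι G i).app U (v i), funext fun j => ?_⟩
    change (biproduct.π G j).app U (∑ i, (biproduct.ι G i).app U (v i)) = v j
    rw [map_sum, Finset.sum_eq_single j (fun i _ hij => ?_) (fun hj => absurd (Finset.mem_univ j) hj),
      ← comp_app', biproduct.ι_π_self]
    · rfl
    · rw [← comp_app', biproduct.ι_π_ne _ hij]
      rfl

/-- Tensor powers are the powers of the tower. -/
noncomputable def tpowIso (E : X.Modules) : ∀ n, CohB1.tensorPow E n ≅ tpow E n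
  | 0 => Iso.refl _
  | n + 1 => M2.tensorComm _ E ≪≫ M2.tensorIso (Iso.refl E) (tpowIso E n)

/-- The projection of a tensor power to lower ones. -/
theorem exists_epi_tensorPow (E : X.Modules) (p : E ⟶ Coh.structureModule X) (s : Coh.structureModule X ⟶ E)
    (hsp : s ≫ p = 𝟙 _) (n : ℕ) : ∀ k, ∃ e : CohB1.tensorPow E (n + k) ⟶ CohB1.tensorPow E n, Epi e
  | 0 => ⟨𝟙 _, inferInstance⟩
  | k + 1 => by
    obtain ⟨e, he⟩ := exists_epi_tensorPow E p s hsp n k
    let q : CohB1.tensorPow E (n + (k + 1)) ⟶ CohB1.tensorPow E (n + k) :=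
      M2.tensorMap (𝟙 _) p ≫ (M2.tensorRUnit _).hom
    haveI : IsSplitEpi q := IsSplitEpi.mk'
      ⟨(M2.tensorRUnit _).inv ≫ M2.tensorMap (𝟙 _) s, by
        change ((M2.tensorRUnit _).inv ≫ M2.tensorMap (𝟙 _) s) ≫ M2.tensorMap (𝟙 _) p ≫ (M2.tensorRUnit _).hom = _
        rw [Category.assoc, ← Category.assoc (M2.tensorMap (𝟙 _) s), ← M2.tensorMap_comp, hsp, Category.comp_id,
          M2.tensorMap_id, Category.id_comp, Iso.inv_hom_id]⟩
    haveI := he
    exact ⟨q ≫ e, inferInstance⟩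

theorem exists_generator [CompactSpace X] [QuasiSeparatedSpace X] :
    ∃ F : X.Modules, Coh.IsQCoh F ∧ CohB1.IsFP F ∧
      ∀ M : X.Modules, Coh.IsQCoh M → CohB1.IsFT M →
        ∃ n₀ m₀ : ℕ, ∀ n m : ℕ, n₀ ≤ n → m₀ ≤ m →
          ∃ π : (∐ fun _ : Fin m => CohB1.tensorPow F n) ⟶ M, Epi π := by
  classical
  obtain ⟨c, -, hc⟩ := ModLimH13.exists_finset_affine_cover (⊤ : X.Opens) isCompact_univ
  let r := c.card
  let U : Fin r → X.affineOpens := fun j => (c.equivFin.symm j).1
  have hcov : ⨆ j, (U j).1 = ⊤ := by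
    refine top_le_iff.1 fun x _ => ?_
    obtain ⟨W, hW, hxW⟩ := hc x trivial
    exact TopologicalSpace.Opens.mem_iSup.2 ⟨c.equivFin ⟨W, hW⟩, by simpa [U] using hxW⟩
  choose I hI hIsupp using fun j => QcOpenIdeal19.exists_support_eq_compl X (U j).1 (U j).2.isCompact
  have hcover : ∀ j, ∃ (G : X.Modules) (π : G ⟶ ClSub.idealMod (I j)), CohB1.IsFP G ∧ Epi π := fun j => by
    obtain ⟨J, _, _, D, cc, hcc, hfp, hpt⟩ := FPExt12.exists_colimit_fp (ClSub.idealMod (I j)) (M2.isQCoh_idealMod _)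
    obtain ⟨k, hk⟩ := FPExt12.exists_epi_stage hcc (hpt ▸ M2.isQCoh_idealMod _) (hpt ▸ isFT_idealMod (hI j))
    haveI := hk
    exact ⟨D.obj k, cc.ι.app k ≫ eqToHom hpt, hfp k, epi_comp (cc.ι.app k) (eqToHom hpt)⟩
  choose G π hG hπ using hcover
  let GG : Fin (r + 1) → X.Modules := Fin.cons (Coh.structureModule X) G
  let F := ⨁ GG
  have hF : CohB1.IsFP F := isFP_biproduct GG (Fin.cases isFP_unit hG)
  refine ⟨F, M1.isFP_isQCoh hF, hF, fun M hM hMf => ?_⟩
  obtain ⟨N, nn, Ψs, hΨ⟩ := exists_epi_tpow (fun j => (U j).1) (fun j => (U j).2) hcov I hI hIsupp F hF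
    (fun j => biproduct.π GG j.succ ≫ π j) (fun j => by
      haveI := hπ j
      exact @epi_comp _ _ _ _ _ (biproduct.π GG j.succ) inferInstance (π j) (hπ j)) M hM hMf
  refine ⟨Finset.univ.sup nn, N, fun n m hn hm => ?_⟩
  have he : ∀ i : Fin N, ∃ e : CohB1.tensorPow F n ⟶ tpow F (nn i), Epi e := fun i => by
    obtain ⟨k, rfl⟩ := Nat.exists_eq_add_of_le ((Finset.le_sup (Finset.mem_univ i)).trans hn)
    obtain ⟨e, he⟩ := exists_epi_tensorPow F (biproduct.π GG 0) (biproduct.ι GG 0) (biproduct.ι_π_self _ _) (nn i) k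
    haveI := he
    exact ⟨e ≫ (tpowIso F (nn i)).hom, inferInstance⟩
  choose e he using he
  refine ⟨Sigma.desc fun b => if h : (b : ℕ) < N then e ⟨b, h⟩ ≫ Ψs ⟨b, h⟩ else 0, ⟨fun g g' hg => ?_⟩⟩
  haveI := hΨ
  rw [← cancel_epi (biproduct.desc Ψs)]
  refine biproduct.hom_ext' _ _ fun i => ?_
  haveI := he i
  rw [biproduct.ι_desc_assoc, biproduct.ι_desc_assoc, ← cancel_epi (e i)]
  have h := congrArg (Sigma.ι (fun _ : Fin m => CohB1.tensorPow F n) ⟨i.1, i.2.trans_le hm⟩ ≫ ·) hg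
  simpa [i.2] using h

end Groth.Agent.DeligneFP18
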