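import Groth.Agent.Lib.DeligneExt9.Extend
import Groth.Agent.Lib.CBC10.TensorSec

/-!
The Deligne tower of a finitely presented module mapping onto an ideal.
-/

set_option autoImplicit false
set_option linter.unusedSectionVars false
set_option linter.style.haveILetI false
set_option backward.isDefEq.respectTransparency false
set_option backward.isDefEq.respectTransparency.types false
set_option maxHeartbeats 1600000

universe u

open CategoryTheory CategoryTheory.Limits AlgebraicGeometry Opposite TensorProduct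

namespace Groth.Agent.DeligneFP18

open DeligneExt9

variable {X : Scheme.{u}}

theorem finitePresentation_tensorProduct {R : Type u} [CommRing R] (M N : Type u) [AddCommGroup M] [Module R M]
    [AddCommGroup N] [Module R N] [Module.FinitePresentation R M] [Module.FinitePresentation R N] :
    Module.FinitePresentation R (M ⊗[R] N) := by
  classical
  obtain ⟨n, f, hf⟩ := Module.Finite.exists_fin' R N
  haveI : Module.FinitePresentation R (M ⊗[R] (Fin n → R)) :=
    Module.FinitePresentation.of_equiv (TensorProduct.piScalarRight R R M (Fin n)).symm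
  haveI : Module.Finite R (LinearMap.ker f) := .of_fg (Module.FinitePresentation.fg_ker f hf)
  refine Module.finitePresentation_of_surjective (f.lTensor M) (LinearMap.lTensor_surjective M hf) ?_
  have h : Function.Exact ((LinearMap.ker f).subtype.lTensor M) (f.lTensor M) :=
    lTensor_exact M f.exact_subtype_ker_map hf
  rw [LinearMap.exact_iff] at h
  rw [h]
  exact Submodule.fg_range _

theorem isFP_tensor {A B : X.Modules} (hA : CohB1.IsFP A) (hB : CohB1.IsFP B) :
    CohB1.IsFP (CohB1.tensorMod A B) := by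
  have hA' := M1.isFP_isQCoh hA
  have hB' := M1.isFP_isQCoh hB
  refine M1.isFP_of_finitePresentation_sections (M2.isQCoh_tensor hA' hB') fun U hU => ?_
  haveI := M1.finitePresentation_sections hA hU
  haveI := M1.finitePresentation_sections hB hU
  haveI := finitePresentation_tensorProduct (R := Γ(X, U)) Γ(A, U) Γ(B, U)
  exact Module.FinitePresentation.of_equiv
    (LinearEquiv.ofBijective _ (CBC10.bijective_secTensor A B hA' hB' hU))

theorem isFP_unit : CohB1.IsFP (Coh.structureModule X) :=
  M1.isFP_of_isFinLocFree (M2.isFinLocFree_of_isInvertible (QAGen11.isInvertible_unit X))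

variable {E : X.Modules} {I : X.IdealSheafData} (π : E ⟶ ClSub.idealMod I)

theorem isFP_tpow (hE : CohB1.IsFP E) : ∀ n : ℕ, CohB1.IsFP (tpow E n)
  | 0 => isFP_unit
  | n + 1 => isFP_tensor hE (isFP_tpow hE n)

section
variable (P : X.Modules)

/-- On affine opens the image of `step` lies in the ideal times the sections. -/
theorem step_mem (hP : Coh.IsQCoh P) {W : X.affineOpens} (t : Γ(CohB1.tensorMod E P, W.1)) :
    (step π P).app W.1 t ∈ (I.ideal W) • (⊤ : Submodule Γ(X, W.1) Γ(P, W.1)) := by
  haveI := hP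
  haveI : Coh.IsQCoh (ClSub.idealMod I) := M2.isQCoh_idealMod I
  set N := (I.ideal W) • (⊤ : Submodule Γ(X, W.1) Γ(P, W.1))
  set v := (step π P).app W.1 t
  let J : Ideal Γ(X, W.1) :=
    { carrier := {r | r • v ∈ N}
      add_mem' := fun {a b} ha hb => by
        rw [Set.mem_setOf_eq, add_smul]; exact N.add_mem ha hb
      zero_mem' := by rw [Set.mem_setOf_eq, zero_smul]; exact N.zero_mem
      smul_mem' := fun c a ha => by
        rw [Set.mem_setOf_eq, smul_eq_mul, mul_smul]; exact N.smul_mem c ha }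
  suffices hJ : J = ⊤ by
    have h : (1 : Γ(X, W.1)) • v ∈ N := (Ideal.eq_top_iff_one J).1 hJ
    rwa [one_smul] at h
  by_contra hJ
  obtain ⟨m, hm, hJm⟩ := Ideal.exists_le_maximal J hJ
  let y : PrimeSpectrum Γ(X, W.1) := ⟨m, hm.isPrime⟩
  let x : X := W.2.fromSpec y
  have hx : x ∈ W.1 := W.2.range_fromSpec.le ⟨y, rfl⟩
  have hprime : (W.2.primeIdealOf ⟨x, hx⟩) = y :=
    W.2.fromSpec.isOpenEmbedding.injective (W.2.fromSpec_primeIdealOf _)
  have key : ∀ z : (CohB1.tensorMod E P).presheaf.stalk x, ∃ (r : Γ(X, W.1)) (n : Γ(P, W.1)),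
      IsUnit (X.presheaf.germ W.1 x hx r) ∧ n ∈ N ∧
        X.presheaf.germ W.1 x hx r • stk (step π P) x z =
          P.presheaf.germ W.1 x hx n := by
    intro z
    refine tensor_germ_induction (motive := fun z => ∃ (r : Γ(X, W.1)) (n : Γ(P, W.1)),
      IsUnit (X.presheaf.germ W.1 x hx r) ∧ n ∈ N ∧
        X.presheaf.germ W.1 x hx r • stk (step π P) x z = P.presheaf.germ W.1 x hx n) P ?_ ?_ ?_ z
    · refine ⟨1, 0, by rw [map_one]; exact isUnit_one, N.zero_mem, ?_⟩
      rw [map_zero, map_zero]
      exact smul_zero _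
    · rintro a b ⟨r, n, hr, hn, he⟩ ⟨r', n', hr', hn', he'⟩
      refine ⟨r * r', r' • n + r • n', by rw [map_mul]; exact hr.mul hr',
        N.add_mem (N.smul_mem _ hn) (N.smul_mem _ hn'), ?_⟩
      rw [map_add, map_add, M1.germ_smul, M1.germ_smul, ← he, ← he', map_mul, smul_add, mul_smul, mul_smul]
      rw [smul_comm (X.presheaf.germ W.1 x hx r) (X.presheaf.germ W.1 x hx r') (stk (step π P) x a)]
    · intro V hxV e p
      have hs : stk (step π P) x
          ((CohB1.tensorMod E P).presheaf.germ V x hxV (M2.tsec E P e p)) =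
          X.presheaf.germ V x hxV (M2.idealIncl I (π.app V e)) • P.presheaf.germ V x hxV p := by
        rw [stk_germ, step_tsec, M1.germ_smul]
      obtain ⟨r₁, a₁, hr₁, ha⟩ := M1.exists_germ_smul_eq (ClSub.idealMod I) W.2 hx
        ((ClSub.idealMod I).presheaf.germ V x hxV (π.app V e))
      obtain ⟨r₂, p₂, hr₂, hp⟩ := M1.exists_germ_smul_eq P W.2 hx (P.presheaf.germ V x hxV p)
      have hmem : M2.idealIncl I a₁ ∈ I.ideal W := by
        rw [← SetLike.mem_coe, ← M2.range_idealIncl]
        exact ⟨a₁, rfl⟩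
      have ha' : X.presheaf.germ W.1 x hx r₁ * X.presheaf.germ V x hxV (M2.idealIncl I (π.app V e)) =
          X.presheaf.germ W.1 x hx (M2.idealIncl I a₁) := by
        have e1 : (ClSub.idealMod I).presheaf.germ (W.1 ⊓ V) x ⟨hx, hxV⟩
            (M1.ores (inf_le_left : W.1 ⊓ V ≤ W.1) r₁ • M1.mres (ClSub.idealMod I) (inf_le_right : W.1 ⊓ V ≤ V) (π.app V e)) =
            (ClSub.idealMod I).presheaf.germ W.1 x hx a₁ := by
          rw [M1.germ_smul, M1.germ_mres, TopCat.Presheaf.germ_res_apply, ha]
        obtain ⟨O, hxO, i₁, i₂, he⟩ := (ClSub.idealMod I).presheaf.germ_eq x _ hx _ _ e1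
        have he' : M1.mres (ClSub.idealMod I) i₁.le
            (M1.ores (inf_le_left : W.1 ⊓ V ≤ W.1) r₁ • M1.mres (ClSub.idealMod I) (inf_le_right : W.1 ⊓ V ≤ V) (π.app V e)) =
            M1.mres (ClSub.idealMod I) i₂.le a₁ := he
        have h2 := congrArg (M2.idealIncl I) he'
        erw [M2.idealIncl_res, M2.idealIncl_res, M2.idealIncl_smul, M2.idealIncl_res] at h2
        have h3 := congrArg (X.presheaf.germ O x hxO) h2
        rw [TopCat.Presheaf.germ_res_apply, TopCat.Presheaf.germ_res_apply, map_mul,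
          TopCat.Presheaf.germ_res_apply, TopCat.Presheaf.germ_res_apply] at h3
        exact h3
      refine ⟨r₁ * r₂, M2.idealIncl I a₁ • p₂, by rw [map_mul]; exact hr₁.mul hr₂,
        Submodule.smul_mem_smul hmem trivial, ?_⟩
      rw [hs, M1.germ_smul, ← hp, ← ha', map_mul]
      rw [← mul_smul, ← mul_smul]
      congr 1
      ring
  obtain ⟨r, n, hr, hn, he⟩ := key ((CohB1.tensorMod E P).presheaf.germ W.1 x hx t)
  have he' : P.presheaf.germ W.1 x hx (r • v - n) = 0 := by
    rw [stk_germ] at he
    rw [map_sub, M1.germ_smul, sub_eq_zero]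
    exact he
  obtain ⟨c, hc, hc0⟩ := M1.exists_smul_eq_zero_of_germ_eq_zero P W.2 hx _ he'
  have hcr : c * r ∈ J := by
    change (c * r) • v ∈ N
    rw [mul_smul, show c • r • v = c • n from by rwa [← sub_eq_zero, ← smul_sub]]
    exact N.smul_mem c hn
  have hu := (M1.isUnit_germ_iff W.2 hx (c * r)).1 (by rw [map_mul]; exact hc.mul hr)
  rw [hprime] at hu
  exact hu (hJm hcr)

end

theorem down_mem (hE : CohB1.IsFP E) (n : ℕ) (W : X.affineOpens) :
    ∀ (k : ℕ) (t : Γ(tpow E (n + k), W.1)),
      (down π n k).app W.1 t ∈ (I.ideal W) ^ k • (⊤ : Submodule Γ(X, W.1) Γ(tpow E n, W.1))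
  | 0, t => by
    rw [pow_zero, Ideal.one_eq_top, Submodule.top_smul]
    trivial
  | k + 1, t => by
    have h := step_mem π (tpow E (n + k)) (M1.isFP_isQCoh (isFP_tpow hE _)) (W := W) t
    change (down π n k).app W.1 ((step π (tpow E (n + k))).app W.1 t) ∈ _
    refine Submodule.smul_induction_on h (fun a ha m _ => ?_) (fun a b ha hb => ?_)
    · rw [Scheme.Modules.Hom.app_smul, pow_succ', ← smul_eq_mul, Submodule.smul_assoc]
      exact Submodule.smul_mem_smul ha (down_mem hE n W k m)
    · rw [map_add]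
      exact Submodule.add_mem _ ha hb

theorem mul_mem (hE : CohB1.IsFP E) (W : X.affineOpens) :
    ∀ (n : ℕ) (t : Γ(tpow E n, W.1)), mulv π n W.1 t ∈ (I.ideal W) ^ n
  | 0, t => by
    rw [pow_zero, Ideal.one_eq_top]
    trivial
  | n + 1, t => by
    have h := step_mem π (tpow E n) (M1.isFP_isQCoh (isFP_tpow hE _)) (W := W) t
    change mulv π n W.1 ((step π (tpow E n)).app W.1 t) ∈ _
    refine Submodule.smul_induction_on h (fun a ha m _ => ?_) (fun a b ha hb => ?_)
    · rw [show mulv π n W.1 (a • m) = a * mulv π n W.1 m from Scheme.Modules.Hom.app_smul (mul π n) a m, pow_succ']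
      exact Ideal.mul_mem_mul ha (mul_mem hE W n m)
    · rw [show mulv π n W.1 (a + b) = mulv π n W.1 a + mulv π n W.1 b from map_add ((mul π n).app W.1).hom a b]
      exact Ideal.add_mem _ ha hb

end Groth.Agent.DeligneFP18
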